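import Cfsg.Agent.H50.RG.LStmts

/-!
# S5714, RG-L15: free action on the unipotent radical (helper361)
-/

set_option autoImplicit false

namespace Cfsg.Agent.H361.RG

open Module Cfsg.Agent.H847.Bs Cfsg.Agent.H50.RG
open Cfsg.Agent.H440.Bs (perp mem_perp mem_perp')

section

variable {F V : Type} [Field F] [AddCommGroup V] [Module F V] {Φ : Frm F V} {A A' C : Submodule F V}

theorem C_perp (h : Opp Φ A A' C) {c : V} (hc : c ∈ C) : (∀ a ∈ A, Φ.B c a = 0) ∧ ∀ a ∈ A', Φ.B c a = 0 := by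
  constructor
  · have h1 : c ∈ perp Φ A := by rw [h.perp_eq]; exact Submodule.mem_sup_right hc
    exact h1
  · have h1 : c ∈ perp Φ A' := by rw [h.perp_eq']; exact Submodule.mem_sup_right hc
    exact h1

theorem B_sub_left (x y w : V) : Φ.B (x - y) w = Φ.B x w - Φ.B y w := by
  have h := Φ.add_left (x - y) y w
  rw [sub_add_cancel] at h
  rw [h, add_sub_cancel_right]

theorem exists_three (h : Opp Φ A A' C) (v : V) : ∃ a ∈ A, ∃ a' ∈ A', ∃ c ∈ C, v = a + a' + c := by
  have h1 : v ∈ (A ⊔ A') ⊔ C := by rw [h.compl.sup_eq_top]; trivial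
  obtain ⟨u, hu, c, hc, rfl⟩ := Submodule.mem_sup.1 h1
  obtain ⟨a, ha, a', ha', rfl⟩ := Submodule.mem_sup.1 hu
  exact ⟨a, ha, a', ha', c, hc, rfl⟩

/-- a vector orthogonal to `A`, `A'`, `C` is zero -/
theorem eq_zero (hN : Φ.Nd) (h : Opp Φ A A' C) {v : V} (h1 : ∀ a ∈ A, Φ.B v a = 0) (h2 : ∀ a ∈ A', Φ.B v a = 0)
    (h3 : ∀ c ∈ C, Φ.B v c = 0) : v = 0 := by
  refine hN v fun y => ?_
  obtain ⟨a, ha, a', ha', c, hc, rfl⟩ := exists_three h y
  rw [Φ.add_right, Φ.add_right, h1 a ha, h2 a' ha', h3 c hc, add_zero, add_zero]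

theorem eq_one (h : Opp Φ A A' C) {g : V ≃ₗ[F] V} (h1 : ∀ a ∈ A, g a = a) (h2 : ∀ a ∈ A', g a = a)
    (h3 : ∀ c ∈ C, g c = c) : g = 1 := by
  ext v
  obtain ⟨a, ha, a', ha', c, hc, rfl⟩ := exists_three h v
  rw [map_add, map_add, h1 a ha, h2 a' ha', h3 c hc]
  rfl

theorem inv_pow {z : V ≃ₗ[F] V} {W : Submodule F V} (hz : Inv z W) (k : ℕ) : Inv (z ^ k) W := by
  induction k with
  | zero => exact fun v hv => hv
  | succ k ih =>
    intro v hv
    rw [pow_succ]
    exact ih _ (hz v hv)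

end

/-- **RG-L15.** -/
theorem l15_of (h10 : L10) : L15 := by
  intro F V _ _ _ _ _ Φ e A A' C hCls hA hO z hz hzC hzA hzA' _ hfix hirr _ hr g hg hzg
  obtain ⟨hN, he, hcl⟩ := hCls
  obtain ⟨hg0, hg1, hg2, hg3⟩ := hg
  have hcomm : ∀ x, z (g x) = g (z x) := by
    intro x
    have h1 : z * g = g * z := mul_inv_eq_iff_eq_mul.1 hzg
    exact DFunLike.congr_fun h1 x
  -- `g = 1` on `C`
  have hgC : ∀ c ∈ C, g c = c := by
    intro c hc
    have h1 : g c - c ∈ A := hg2 c (by rw [hO.perp_eq]; exact Submodule.mem_sup_right hc)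
    have h2 : z (g c - c) = g c - c := by rw [map_sub, hcomm, hzC c hc]
    exact sub_eq_zero.1 (hfix _ h1 h2)
  -- `g a' - a' ∈ A`
  have hgA' : ∀ x ∈ A', g x - x ∈ A := by
    intro x hx
    have h1 := hg1 x
    rw [hO.perp_eq] at h1
    obtain ⟨a, ha, c, hc, hac⟩ := Submodule.mem_sup.1 h1
    have h2 : c = 0 := by
      refine eq_zero hN hO (C_perp hO hc).1 (C_perp hO hc).2 fun c' hc' => ?_
      have h3 : Φ.B (g x - x) c' = 0 := by
        have h4 : Φ.B (g x) c' = Φ.B x c' := by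
          conv_lhs => rw [← hgC c' hc']
          exact hg0.1 x c'
        rw [B_sub_left, h4, sub_self]
      rw [← hac, Φ.add_left, Φ.refl _ _ ((C_perp hO hc').1 a ha), zero_add] at h3
      exact h3
    rw [← hac, h2, add_zero]
    exact ha
  -- the restriction of `z` to `A'`
  let f : A' →ₗ[F] A' := (z : V →ₗ[F] V).restrict hzA'
  have hf : Function.Injective f := fun x y hxy => Subtype.ext (z.injective (congrArg Subtype.val hxy))
  let z' : A' ≃ₗ[F] A' := LinearEquiv.ofInjectiveEndo f hf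
  have hz' : ∀ x : A', ((z' x : A') : V) = z x := fun x => rfl
  have hzp : ∀ (k : ℕ) (x : A'), (((z' ^ k) x : A') : V) = (z ^ k) x := by
    intro k
    induction k with
    | zero => exact fun x => rfl
    | succ k ih =>
      intro x
      rw [pow_succ, pow_succ]
      exact ih (z' x)
  -- the order
  have hord : orderOf z ∣ orderOf z' := by
    apply orderOf_dvd_of_pow_eq_one
    set k := orderOf z' with hk
    have h2 : ∀ a ∈ A', (z ^ k) a = a := by
      intro a ha
      have h3 := hzp k ⟨a, ha⟩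
      rw [hk, pow_orderOf_eq_one] at h3
      rw [hk]
      exact h3.symm
    have h3 : ∀ c ∈ C, (z ^ k) c = c := by
      intro c hc
      have : ∀ j : ℕ, (z ^ j) c = c := by
        intro j
        induction j with
        | zero => rfl
        | succ j ih =>
          rw [pow_succ]
          change (z ^ j) (z c) = c
          rw [hzC c hc, ih]
      exact this k
    refine eq_one hO (fun a ha => ?_) h2 h3
    have h4 : (z ^ k) a - a ∈ A := A.sub_mem (inv_pow hzA k a ha) ha
    have hzk : z ^ k ∈ Φ.Iso := pow_mem hz k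
    refine sub_eq_zero.1 (eq_zero hN hO (fun b hb => hO.ti.1 _ h4 b hb) (fun b hb => ?_) fun c hc => ?_)
    · rw [B_sub_left]
      conv_lhs => enter [1]; rw [← h2 b hb]
      rw [hzk.1, sub_self]
    · exact Φ.refl _ _ ((C_perp hO hc).1 _ h4)
  obtain ⟨r, hrp, hrz, hre⟩ := hr
  -- irreducibility
  have hIrr : Irr z' ⊤ := by
    refine ⟨fun _ _ => trivial, ?_, ?_⟩
    · intro h1
      have h2 : finrank F A' = 0 := by
        rw [← finrank_top, h1, finrank_bot]
      rw [← hO.dim, hA] at h2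
      omega
    · intro Y _ hY
      have h1 : Inv z (Y.map A'.subtype) := by
        rintro _ ⟨y, hy, rfl⟩
        exact ⟨z' y, hY y hy, hz' y⟩
      rcases hirr (Y.map A'.subtype) (Submodule.map_subtype_le A' Y) h1 with h2 | h2
      · left
        rw [eq_bot_iff]
        intro y hy
        have h3 : (y : V) ∈ Y.map A'.subtype := ⟨y, hy, rfl⟩
        rw [h2, Submodule.mem_bot] at h3
        exact (Submodule.mem_bot F).2 (Subtype.ext h3)
      · right
        rw [eq_top_iff]
        rintro ⟨y, hy⟩ -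
        rw [← h2] at hy
        obtain ⟨w, hw, hwy⟩ := hy
        have h3 : w = ⟨y, by rw [← hwy]; exact w.2⟩ := Subtype.ext hwy
        rwa [h3] at hw
  -- the pairing
  have hβ := h10 F A' e r z' he hIrr hrp (hrz.trans hord) hre Φ.s (by
    rcases hcl with ⟨h1, h2⟩ | ⟨t, h1, h2⟩ | ⟨Q, h1, h2⟩
    · exact Or.inl ⟨h1.s, h2⟩
    · exact Or.inr ⟨⟨t, h1.card, h1.s⟩, h2⟩
    · exact Or.inl ⟨fun a => by rw [h1]; rfl, h2⟩) (fun x y => Φ.B (g x - x) y)
    (fun x y w => by
      change Φ.B (g ((x : V) + y) - (x + y)) w = _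
      rw [map_add, add_sub_add_comm, Φ.add_left])
    (fun x y w => Φ.add_right _ _ _)
    (fun a x y => by
      change Φ.B (g (a • (x : V)) - a • (x : V)) y = _
      rw [map_smul, ← smul_sub, Φ.smul_left])
    (fun a x y => Φ.smul_right _ _ _)
    (fun x y => by
      change Φ.B (g (z x) - z x) (z y) = _
      rw [← hcomm, ← map_sub, hz.1])
  refine eq_one hO hg3 (fun x hx => ?_) hgC
  have h1 := hgA' x hx
  refine sub_eq_zero.1 (eq_zero hN hO (fun b hb => hO.ti.1 _ h1 b hb) (fun b hb => hβ ⟨x, hx⟩ ⟨b, hb⟩) fun c hc => ?_)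
  exact Φ.refl _ _ ((C_perp hO hc).1 _ h1)

end Cfsg.Agent.H361.RG
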